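import Groth.Agent.LS17.FFBase
import Groth.Agent.LS17.BirSeries
import Groth.Agent.LS17.Trisecant

/-! Nonspecial divisors of degree at least `g + 3` separating all pairs of places, in any characteristic. -/

set_option linter.unusedSectionVars false
set_option linter.style.haveILetI false

namespace Groth.Agent.CurvFam16.Nonspec

open FunFld WithZero IntermediateField
open Groth.Agent.FFLib Groth.Agent.LS17

variable {k K : Type*} [Field k] [IsAlgClosed k] [Field K] [Algebra k K] (hK : IsFunctionField k K)

include hK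

/-- Outside a finite set, removing a place drops the dimension. -/
theorem exists_drop_set (E : Divisor k K) : ∃ S : Set (Place k K), S.Finite ∧
    ∀ R ∉ S, ell (E - Finsupp.single R 1) ≤ ell E - 1 := by
  classical
  rcases Nat.eq_zero_or_pos (ell E) with h0 | h0
  · exact ⟨∅, Set.finite_empty, fun P _ => by have := ell_sub_pt_le hK E P; omega⟩
  · obtain ⟨z, hz0, hzL, -⟩ := exists_le_add_div hK.1 (D := E) h0
    refine ⟨↑(E + FunFld.div k z).support, Finset.finite_toSet _, fun P hP => ?_⟩
    rw [Finset.mem_coe, Finsupp.notMem_support_iff, Finsupp.add_apply, div_apply hK.1] at hP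
    have := L_finite hK.1 E
    have hlt : L (E - Finsupp.single P 1) < L E := lt_of_le_not_ge
      (L_mono (sub_le_self _ (Finsupp.single_nonneg.mpr zero_le_one))) fun hle =>
        (not_mem_L_sub_iff hzL).mpr ⟨hz0, by omega⟩ (hle hzL)
    have := Submodule.finrank_lt_finrank_of_lt hlt
    show Module.finrank k ↥(L (E - Finsupp.single P 1)) ≤ Module.finrank k ↥(L E) - 1
    omega

/-- Without base points, a member exact at finitely many places and off a given line. -/
theorem exists_exact_member {D : Divisor k K} (hD : ∀ P : Place k K, ell (D - Finsupp.single P 1) < ell D)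
    (S : Finset (Place k K)) (W : Submodule k K) (hW : ¬ L D ≤ W) :
    ∃ u ∈ L D, u ∉ W ∧ ∀ P ∈ S, P.ord u = -D P := by
  classical
  have := L_finite hK.1 D
  let p : Option S → Submodule k (L D) := fun o => o.elim (W.comap (L D).subtype)
    fun P => (L (D - Finsupp.single (P : Place k K) 1)).comap (L D).subtype
  obtain ⟨⟨u, hu⟩, hpu⟩ := Submodule.exists_forall_notMem_of_forall_ne_top p fun o htop => by
    rcases o with _ | P
    · exact hW fun z hz => (show (⟨z, hz⟩ : L D) ∈ p none from htop ▸ trivial)
    · have hle : L D ≤ L (D - Finsupp.single (P : Place k K) 1) := fun z hz =>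
        (show (⟨z, hz⟩ : L D) ∈ p (some P) from htop ▸ trivial)
      have := L_finite hK.1 (D - Finsupp.single (P : Place k K) 1)
      have := Submodule.finrank_mono hle
      have := hD (P : Place k K)
      simp only [ell] at *
      omega
  exact ⟨u, hu, hpu none, fun P hP => ((not_mem_L_sub_iff hu).mp (hpu (some ⟨P, hP⟩))).2⟩

/-- The pole divisor of a member exact on the support. -/
theorem poles_eq_of_exact {D : Divisor k K} (hD : 0 ≤ D) {u : K} (hu : u ∈ L D) (hu0 : u ≠ 0)
    (hex : ∀ P ∈ D.support, P.ord u = -D P) : (poles u : Divisor k K) = D := by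
  ext P
  have h1 := (mem_L_iff_ord hu0).mp hu P
  have h2 := hD P
  rw [Finsupp.zero_apply] at h2
  rw [poles, Finsupp.mapRange_apply, div_apply hK.1]
  by_cases hP : P ∈ D.support
  · rw [hex P hP]; omega
  · rw [Finsupp.notMem_support_iff] at hP; omega

/-- A pencil of degree `g + 1` without base points. -/
theorem exists_pencil : ∃ D : Divisor k K, 0 ≤ D ∧ D.deg = genus k K + 1 ∧ ell D = 2 ∧
    (∀ P : Place k K, ell (D - Finsupp.single P 1) < ell D) ∧ ∀ C, IsCanonical k K C → ell (C - D) = 0 := by
  classical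
  obtain ⟨G, hG0, hGd, hGl, -⟩ := exists_nonspecial hK ∅ Set.finite_empty
  obtain ⟨C, hC⟩ := exists_canonical hK
  choose S hS hSdrop using fun P : Place k K => exists_drop_set hK (C - (G - Finsupp.single P 1))
  obtain ⟨R, -, hR⟩ := ((infinite_places' hK.1).sdiff
    ((G.support.finite_toSet).union (G.support.finite_toSet.biUnion fun P _ => hS P))).nonempty
  simp only [Set.mem_union, Finset.mem_coe, Set.mem_iUnion, not_or, not_exists] at hR
  have hGR : G R = 0 := by simpa using hR.1
  obtain ⟨hl2, -⟩ := exists_pole_at hK hG0 hGd hGl hGR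
  have hd : Divisor.deg (G + Finsupp.single R 1 : Divisor k K) = (genus k K : ℤ) + 1 := by rw [Divisor.deg_add, deg_pt hK, hGd]
  have h0 : 0 ≤ G + Finsupp.single R 1 := add_nonneg hG0 (Finsupp.single_nonneg.mpr zero_le_one)
  refine ⟨_, h0, hd, hl2, fun P => ?_, fun C' hC' => ?_⟩
  · rw [hl2]
    by_contra hge
    rcases eq_or_ne P R with rfl | hPR
    · rw [add_sub_cancel_right, hGl] at hge; omega
    by_cases hP : P ∈ G.support
    · have h1 := hSdrop P R (hR.2 P hP)
      have r1 := (rr_C hK hC (G - Finsupp.single P 1)).1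
      have r2 := (rr_C hK hC (G + Finsupp.single R 1 - Finsupp.single P 1)).1
      have r3 := ell_sub_pt_le hK G P
      rw [deg_sub_pt hK] at r1
      rw [deg_sub_pt hK, hd, show C - (G + Finsupp.single R 1 - Finsupp.single P 1) =
        C - (G - Finsupp.single P 1) - Finsupp.single R 1 by abel] at r2
      omega
    · rw [Finsupp.notMem_support_iff] at hP
      have hone : (1 : K) ∈ L (G + Finsupp.single R 1) := L_mono h0 (fun Q => by simp)
      have hnot := (not_mem_L_sub_iff (P := P) hone).mpr ⟨one_ne_zero, by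
        rw [Finsupp.add_apply, hP, Finsupp.single_eq_of_ne hPR]; simp [Place.ord]⟩
      have := L_finite hK.1 (G + Finsupp.single R 1)
      have hlt : L (G + Finsupp.single R 1 - Finsupp.single P 1) < L (G + Finsupp.single R 1) := lt_of_le_not_ge
        (L_mono (sub_le_self _ (Finsupp.single_nonneg.mpr zero_le_one))) fun hle => hnot (hle hone)
      have := Submodule.finrank_lt_finrank_of_lt hlt
      simp only [ell] at *
      omega
  · have := (rr_C hK hC' (G + Finsupp.single R 1)).1
    rw [hd, hl2] at this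
    omega

/-- A net of degree `g + 2` separating all but finitely many pairs. -/
theorem exists_net {C : Divisor k K} (hC : IsCanonical k K C) :
    ∃ (D : Divisor k K) (B : Set (Place k K × Place k K)),
      B.Finite ∧ D.deg = genus k K + 2 ∧ ell D = 3 ∧
      (∀ P Q : Place k K, ell (D - Finsupp.single P 1 - Finsupp.single Q 1) ≤ 2) ∧
      ∀ P Q : Place k K, (P, Q) ∉ B → ell (D - Finsupp.single P 1 - Finsupp.single Q 1) ≤ 1 := by
  classical
  obtain ⟨D₁, h10, h1d, h1l, h1b, h1s⟩ := exists_pencil hK
  obtain ⟨R, -, hR⟩ := ((infinite_places' hK.1).sdiff D₁.support.finite_toSet).nonempty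
  rw [Finset.mem_coe, Finsupp.notMem_support_iff] at hR
  set D := D₁ + Finsupp.single R 1 with hDdef
  have hd : D.deg = (genus k K : ℤ) + 2 := by rw [hDdef, Divisor.deg_add, deg_pt hK, h1d]; ring
  have hD0 : 0 ≤ D := add_nonneg h10 (Finsupp.single_nonneg.mpr zero_le_one)
  have hsp : ell (C - D) = 0 := by
    have := ell_sub_pt_le hK (C - D₁) R
    rw [show C - D₁ - Finsupp.single R 1 = C - D by rw [hDdef]; abel] at this
    have := h1s C hC
    omega
  have hl : ell D = 3 := by
    have := (rr_C hK hC D).1
    rw [hd, hsp] at this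
    omega
  have hb : ∀ P, ell (D - Finsupp.single P 1) < ell D := fun P => by
    rw [hl]
    rcases eq_or_ne P R with rfl | hne
    · rw [hDdef, add_sub_cancel_right, h1l]; omega
    · have h := h1b P
      have h' := ell_le_sub_pt hK (D₁ + Finsupp.single R 1 - Finsupp.single P 1) R
      rw [show D₁ + Finsupp.single R 1 - Finsupp.single P 1 - Finsupp.single R 1 = D₁ - Finsupp.single P 1 by abel,
        ← hDdef] at h'
      omega
  have hW1 : ¬ L D₁ ≤ Submodule.span k {(1 : K)} := fun hle => by
    have := Submodule.finrank_mono hle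
    rw [finrank_span_singleton (one_ne_zero (α := K))] at this
    change ell D₁ ≤ 1 at this
    omega
  obtain ⟨y, hy, hy1, hyex⟩ := exists_exact_member hK h1b D₁.support _ hW1
  have hW2 : ¬ L D ≤ L D₁ := fun hle => by
    have := L_finite hK.1 D₁
    have := Submodule.finrank_mono hle
    change ell D ≤ ell D₁ at this
    omega
  obtain ⟨u, hu, hu1, huex⟩ := exists_exact_member hK hb D.support _ hW2
  have hy0 : y ≠ 0 := fun e => hy1 (e ▸ zero_mem _)
  have hu0 : u ≠ 0 := fun e => hu1 (e ▸ zero_mem _)
  have hyt : Transcendental k y := transcendental_of_not_range hK (fun ⟨c, hc⟩ =>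
    hy1 (Submodule.mem_span_singleton.mpr ⟨c, by rw [← hc, Algebra.smul_def, mul_one]⟩))
  have hut : Transcendental k u := transcendental_of_not_range hK (fun ⟨c, hc⟩ => hu1 (by
    rw [← hc, Algebra.algebraMap_eq_smul_one]
    exact Submodule.smul_mem _ _ (L_mono h10 (fun Q => by simp))))
  have hgen : IntermediateField.adjoin k ({y, u} : Set K) = ⊤ := by
    set F := IntermediateField.adjoin k ({y, u} : Set K)
    have hy' := finrank_dvd_of_le_left (F := k⟮y⟯) (E := F)
      (adjoin_simple_le_iff.mpr (IntermediateField.subset_adjoin k _ (by simp)))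
    have hu' := finrank_dvd_of_le_left (F := k⟮u⟯) (E := F)
      (adjoin_simple_le_iff.mpr (IntermediateField.subset_adjoin k _ (by simp)))
    have e1 := deg_poles hK.1 hyt
    have e2 := deg_poles hK.1 hut
    rw [poles_eq_of_exact hK h10 hy hy0 hyex, h1d] at e1
    rw [poles_eq_of_exact hK hD0 hu hu0 huex, hd] at e2
    rw [← IntermediateField.finrank_eq_one_iff_eq_top]
    obtain ⟨a, ha⟩ := hy'
    obtain ⟨b, hb'⟩ := hu'
    rw [ha] at e1
    rw [hb'] at e2
    have : Module.finrank F K ∣ 1 := by
      have h1 : Module.finrank F K ∣ genus k K + 1 := ⟨a, by exact_mod_cast e1⟩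
      have h2 : Module.finrank F K ∣ genus k K + 2 := ⟨b, by exact_mod_cast e2⟩
      exact (Nat.dvd_add_right h1).mp (show Module.finrank F K ∣ genus k K + 1 + 1 from h2)
    exact Nat.dvd_one.mp this
  let φ : Fin 3 → K := ![1, y, u]
  have hli : LinearIndependent k φ := by
    rw [Fintype.linearIndependent_iff]
    intro c hc
    simp only [φ, Fin.sum_univ_three, Matrix.cons_val_zero, Matrix.cons_val_one, Matrix.cons_val] at hc
    have hmem : c 0 • (1 : K) + c 1 • y ∈ L D₁ :=
      add_mem (Submodule.smul_mem _ _ (L_mono h10 (fun Q => by simp))) (Submodule.smul_mem _ _ hy)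
    have h2 : c 2 = 0 := by
      by_contra hne
      apply hu1
      have : u = (-(c 2)⁻¹) • (c 0 • (1 : K) + c 1 • y) := by
        rw [eq_neg_of_add_eq_zero_left hc, neg_smul, smul_neg, neg_neg, inv_smul_smul₀ hne]
      rw [this]; exact Submodule.smul_mem _ _ hmem
    rw [h2, zero_smul, add_zero] at hc
    have h1 : c 1 = 0 := by
      by_contra hne
      apply hy1
      refine Submodule.mem_span_singleton.mpr ⟨-(c 1)⁻¹ * c 0, ?_⟩
      rw [← smul_smul, eq_neg_of_add_eq_zero_left hc, neg_smul, smul_neg, neg_neg, inv_smul_smul₀ hne]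
    rw [h1, zero_smul, add_zero, smul_eq_zero] at hc
    intro i
    fin_cases i
    · exact hc.resolve_right one_ne_zero
    · exact h1
    · exact h2
  have hspan : Submodule.span k (Set.range φ) = L D := by
    have := L_finite hK.1 D
    refine Submodule.eq_of_le_of_finrank_le (Submodule.span_le.mpr ?_) (by
      rw [finrank_span_eq_card hli, Fintype.card_fin]; exact hl.le)
    rintro _ ⟨i, rfl⟩
    fin_cases i
    · exact L_mono hD0 (fun Q => by simp [φ])
    · exact L_mono (le_add_of_nonneg_right (Finsupp.single_nonneg.mpr zero_le_one)) hy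
    · exact hu
  have hbpf : IsBpfSeries D (Submodule.span k (Set.range φ)) := by
    rw [hspan]
    exact ⟨le_rfl, fun Q => (noBase_of_ell hK.1 hb) Q⟩
  have hbir : IntermediateField.adjoin k (Set.range fun i => φ i / φ 0) = ⊤ := by
    rw [eq_top_iff, ← hgen, IntermediateField.adjoin_le_iff]
    rintro z (rfl | rfl)
    · exact IntermediateField.subset_adjoin k _ ⟨1, by simp [φ]⟩
    · exact IntermediateField.subset_adjoin k _ ⟨2, by simp [φ]⟩
  choose Z hZ hZdrop using fun P : Place k K => exists_drop_set hK (D - Finsupp.single P 1)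
  refine ⟨D, ⋃ P ∈ {P | ¬ IsNonsingularAt φ P}, (fun Q => (P, Q)) '' Z P,
    (FFLib.finite_singular hK (by omega) hli hbir).biUnion (fun P _ => (hZ P).image _), hd, hl,
    fun P Q => ?_, fun P Q hPQ => ?_⟩
  · have := ell_sub_pt_le hK (D - Finsupp.single P 1) Q
    have := hb P
    omega
  have hbP := hb P
  by_cases hns : IsNonsingularAt φ P
  · have h' := bpf_of_nonsingular hK hbpf hns
    obtain ⟨z, hz, hz0, hzQ⟩ := h'.exact Q
    have := L_finite hK.1 (D - Finsupp.single P 1)
    have hlt : L (D - Finsupp.single P 1 - Finsupp.single Q 1) < L (D - Finsupp.single P 1) := lt_of_le_not_ge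
      (L_mono (sub_le_self _ (Finsupp.single_nonneg.mpr zero_le_one))) fun hle =>
        (not_mem_L_sub_iff hz.2).mpr ⟨hz0, hzQ⟩ (hle hz.2)
    have := Submodule.finrank_lt_finrank_of_lt hlt
    simp only [ell] at *
    omega
  · have := hZdrop P Q fun h => hPQ (Set.mem_biUnion (show P ∈ {P | ¬ IsNonsingularAt φ P} from hns) ⟨Q, h, rfl⟩)
    omega

/-- Nonspecial very ample divisors of every degree at least `g + 3`. -/
theorem exists_very_ample {C : Divisor k K} (hC : IsCanonical k K C) (j : ℕ) :
    ∃ D : Divisor k K, D.deg = genus k K + 3 + j ∧ ell (C - D) = 0 ∧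
      ∀ P Q : Place k K, ell (D - Finsupp.single P 1 - Finsupp.single Q 1) + 2 ≤ ell D := by
  classical
  suffices h : ∃ D : Divisor k K, D.deg = genus k K + 3 + j ∧ ell (C - D) = 0 ∧
      ∀ P Q : Place k K, ell (D - Finsupp.single P 1 - Finsupp.single Q 1) ≤ j + 2 by
    obtain ⟨D, hd, hs, hb⟩ := h
    refine ⟨D, hd, hs, fun P Q => ?_⟩
    have := (rr_C hK hC D).1
    rw [hd, hs] at this
    have := hb P Q
    omega
  induction j with
  | zero =>
    obtain ⟨D, B, hB, hd, hl, h2, hgood⟩ := exists_net hK hC
    choose S hS hSdrop using fun p : Place k K × Place k K =>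
      exists_drop_set hK (C - (D - Finsupp.single p.1 1 - Finsupp.single p.2 1))
    obtain ⟨R, -, hR⟩ := ((infinite_places' hK.1).sdiff (hB.biUnion fun p _ => hS p)).nonempty
    simp only [Set.mem_iUnion, not_exists] at hR
    have hsp : ell (C - D) = 0 := by
      have := (rr_C hK hC D).1
      rw [hd, hl] at this
      omega
    refine ⟨D + Finsupp.single R 1, by rw [Divisor.deg_add, deg_pt hK, hd]; ring, ?_, fun P Q => ?_⟩
    · have := ell_sub_pt_le hK (C - D) R
      rw [show C - D - Finsupp.single R 1 = C - (D + Finsupp.single R 1) by abel] at this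
      omega
    have h' := ell_le_sub_pt hK (D + Finsupp.single R 1 - Finsupp.single P 1 - Finsupp.single Q 1) R
    rw [show D + Finsupp.single R 1 - Finsupp.single P 1 - Finsupp.single Q 1 - Finsupp.single R 1 =
      D - Finsupp.single P 1 - Finsupp.single Q 1 by abel] at h'
    by_cases hbad : (P, Q) ∈ B
    · have h1 := hSdrop (P, Q) R (hR (P, Q) hbad)
      have r1 := (rr_C hK hC (D - Finsupp.single P 1 - Finsupp.single Q 1)).1
      have r2 := (rr_C hK hC (D + Finsupp.single R 1 - Finsupp.single P 1 - Finsupp.single Q 1)).1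
      rw [deg_sub_pt hK, deg_sub_pt hK, hd] at r1
      rw [deg_sub_pt hK, deg_sub_pt hK, Divisor.deg_add, deg_pt hK, hd,
        show C - (D + Finsupp.single R 1 - Finsupp.single P 1 - Finsupp.single Q 1) =
          C - (D - Finsupp.single P 1 - Finsupp.single Q 1) - Finsupp.single R 1 by abel] at r2
      simp only at h1
      have := h2 P Q
      omega
    · have := hgood P Q hbad
      omega
  | succ j ih =>
    obtain ⟨D, hd, hs, hb⟩ := ih
    obtain ⟨R⟩ := exists_place hK.1
    refine ⟨D + Finsupp.single R 1, by rw [Divisor.deg_add, deg_pt hK, hd]; push_cast; ring, ?_, fun P Q => ?_⟩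
    · have := ell_sub_pt_le hK (C - D) R
      rw [show C - D - Finsupp.single R 1 = C - (D + Finsupp.single R 1) by abel] at this
      omega
    have h' := ell_le_sub_pt hK (D + Finsupp.single R 1 - Finsupp.single P 1 - Finsupp.single Q 1) R
    rw [show D + Finsupp.single R 1 - Finsupp.single P 1 - Finsupp.single Q 1 - Finsupp.single R 1 =
      D - Finsupp.single P 1 - Finsupp.single Q 1 by abel] at h'
    have := hb P Q
    omega

/-- A separating net has degree equal to that of a smooth plane curve. -/
theorem plane_case {D : Divisor k K} (e3 : ell D = 3)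
    (hb : ∀ P, ell (D - Finsupp.single P 1) < ell D) (hd2 : D.deg = (genus k K : ℤ) + 2)
    (hsep : ∀ P Q : Place k K, ell (D - Finsupp.single P 1 - Finsupp.single Q 1) + 2 ≤ ell D) :
    genus k K ≤ 1 := by
  classical
  obtain ⟨P₀⟩ := exists_place hK.1
  have := L_finite hK.1 D
  obtain ⟨b⟩ : Nonempty (Module.Basis (Fin 3) k (L D)) := ⟨Module.finBasisOfFinrankEq k (L D) e3⟩
  have hb0 : (b 0 : K) ≠ 0 := fun e => b.ne_zero 0 (Subtype.ext e)
  set x : K := (b 1 : K) / (b 0 : K)
  set y : K := (b 2 : K) / (b 0 : K)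
  set D' := D + FunFld.div k (b 0 : K)
  let φ : Fin 3 → K := ![1, x, y]
  have hφ : ∀ i, φ i = (b i : K) / (b 0 : K) := fun i => by
    fin_cases i
    · exact (div_self hb0).symm
    · rfl
    · rfl
  have hord : ∀ (Q : Place k K) (z : K), z ≠ 0 → Q.ord (z / (b 0 : K)) = Q.ord z - Q.ord (b 0 : K) := fun Q z hz => by
    rw [div_eq_mul_inv, ord_mul Q hz (inv_ne_zero hb0), ord_inv]; ring
  have hD' : ∀ Q, D' Q = D Q + Q.ord (b 0 : K) := fun Q => by
    simp only [D', Finsupp.add_apply, div_apply hK.1]
  have hmap : FunFld.mapDiv k φ = D' := by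
    ext Q
    rw [mapDiv_apply hK.1, hD']
    have hle : ∀ i, -D Q - Q.ord (b 0 : K) ≤ Q.ord (φ i) := fun i => by
      have h0 : (b i : K) ≠ 0 := fun e => b.ne_zero i (Subtype.ext e)
      have := (mem_L_iff_ord h0).mp (b i).2 Q
      rw [hφ, hord Q _ h0]
      omega
    obtain ⟨i, hi⟩ : ∃ i, Q.ord (b i : K) = -D Q := by
      by_contra! hne
      have hsub : L D ≤ L (D - Finsupp.single Q 1) := fun z hz => by
        rw [show z = ((⟨z, hz⟩ : L D) : K) from rfl, ← b.sum_repr ⟨z, hz⟩, Submodule.coe_sum]
        refine sum_mem fun i _ => Submodule.smul_mem _ _ ?_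
        by_contra hn
        exact hne i ((not_mem_L_sub_iff (b i).2).mp hn).2
      have := L_finite hK.1 (D - Finsupp.single Q 1)
      have := Submodule.finrank_mono hsub
      have := hb Q
      simp only [ell] at *
      omega
    have h1 := Finset.inf'_le (fun i => Q.ord (φ i)) (Finset.mem_univ i)
    have h2 := Finset.le_inf' Finset.univ_nonempty (fun i => Q.ord (φ i)) (fun i _ => hle i)
    simp only [hφ i, hord Q _ (fun e => b.ne_zero i (Subtype.ext e) : (b i : K) ≠ 0), hi] at h1
    omega
  have hli : LinearIndependent k φ := by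
    have h1 : LinearIndependent k fun i => ((b i : L D) : K) := b.linearIndependent.map' _ (Submodule.ker_subtype _)
    have h2 := h1.map' (LinearMap.mulRight k (b 0 : K)⁻¹) (LinearMap.ker_eq_bot.2 fun a c hac =>
      mul_right_cancel₀ (inv_ne_zero hb0) hac)
    rw [show φ = (⇑(LinearMap.mulRight k (b 0 : K)⁻¹) ∘ fun i => ((b i : L D) : K)) from
      funext fun i => by rw [hφ, div_eq_mul_inv]; rfl]
    exact h2
  have hbpf := isBpfSeries_span' hK hli
  rw [hmap] at hbpf
  have hlD : ell D' = ell D := ell_add_div hK.1 D hb0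
  have hd' : D'.deg = D.deg := by simp only [D', Divisor.deg_add, deg_div hK.1, add_zero]
  have hVL : Submodule.span k (Set.range φ) = L D' := by
    have := L_finite hK.1 D'
    refine Submodule.eq_of_le_of_finrank_le hbpf.le ?_
    rw [finrank_span_eq_card hli, Fintype.card_fin]
    exact (hlD.trans e3).le
  have hns : ∀ P, IsNonsingularAt φ P := fun P => by
    refine (isNonsingularAt_iff_bpf hK hbpf (by omega) P).2 ?_
    rw [hVL, inf_eq_right.mpr (L_mono (sub_le_self _ (Finsupp.single_nonneg.mpr zero_le_one)))]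
    refine ⟨le_rfl, fun Q => noBase_of_ell hK.1 (fun R => ?_) Q⟩
    have h1 : ell (D' - Finsupp.single P 1 - Finsupp.single R 1) =
        ell (D - Finsupp.single P 1 - Finsupp.single R 1) := by
      rw [show D' - Finsupp.single P 1 - Finsupp.single R 1 =
        D - Finsupp.single P 1 - Finsupp.single R 1 + FunFld.div k (b 0 : K) by simp only [D']; abel]
      exact ell_add_div hK.1 _ hb0
    have h2 := ell_le_sub_pt hK D' P
    have := hsep P R
    omega
  have hgen : IntermediateField.adjoin k ({x, y} : Set K) = ⊤ := by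
    have h := adjoin_ratios_eq_top hK φ (by simp [φ]) P₀ (hns P₀)
    rw [eq_top_iff, ← h, IntermediateField.adjoin_le_iff]
    rintro _ ⟨i, rfl⟩
    fin_cases i
    · simp [φ]
    · simpa [φ] using IntermediateField.subset_adjoin k ({x, y} : Set K) (Set.mem_insert x {y})
    · simpa [φ] using IntermediateField.subset_adjoin k ({x, y} : Set K) (Set.mem_insert_of_mem x rfl)
  have hgen' := genus_eq_of_nonsingular hK hgen hns
  rw [show FunFld.mapDiv k ![(1 : K), x, y] = D' from hmap, hd'] at hgen'
  rw [hd2] at hgen'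
  nlinarith

/-- A separating nonspecial divisor of positive genus at least two has degree at least `g + 3`. -/
theorem genus_add_three_le {D : Divisor k K} (hg : 2 ≤ genus k K) {C : Divisor k K} (hC : IsCanonical k K C)
    (hs : ell (C - D) = 0)
    (hsep : ∀ P Q : Place k K, ell (D - Finsupp.single P 1 - Finsupp.single Q 1) + 2 ≤ ell D) :
    (genus k K : ℤ) + 3 ≤ D.deg := by
  classical
  obtain ⟨P₀⟩ := exists_place hK.1
  have hl2 := hsep P₀ P₀
  have hrr := (rr_C hK hC D).1
  rw [hs] at hrr
  by_contra hlt
  have hb : ∀ P, ell (D - Finsupp.single P 1) < ell D := fun P => by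
    have := hsep P P
    have := ell_le_sub_pt hK (D - Finsupp.single P 1) P
    omega
  rcases (show ell D = 2 ∨ ell D = 3 by omega) with e2 | e3
  · obtain ⟨E, hE, hl⟩ := exists_effective hK.1 (D := D) (by omega)
    obtain ⟨P, hP⟩ := exists_single_le hK hE (by rw [← hl.deg_eq hK.1]; omega)
    obtain ⟨Q, hQ⟩ := exists_single_le hK (sub_nonneg.mpr hP)
      (by rw [deg_sub_pt hK, ← hl.deg_eq hK.1]; omega)
    have hpos : 0 < ell (E - Finsupp.single P 1 - Finsupp.single Q 1) :=
      ell_pos_of_effective hK.1 (sub_nonneg.mpr hQ)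
    have he := ((hl.sub hK.1 (Lin.refl hK.1 (Finsupp.single P 1))).sub hK.1
      (Lin.refl hK.1 (Finsupp.single Q 1))).ell_eq hK.1
    have := hsep P Q
    omega
  · have := plane_case hK e3 hb (by omega) hsep
    omega

end Groth.Agent.CurvFam16.Nonspec
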