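import Groth.Agent.CurvFam16.Castel.Sep
import Groth.Agent.LS17.Embed
import Groth.Agent.LS17.Modules

/-! Closed immersions of curves are nonsingular at every place and separate pairs of places. -/

noncomputable section

set_option linter.style.haveILetI false
set_option linter.unusedSectionVars false
set_option backward.isDefEq.respectTransparency false
set_option backward.isDefEq.respectTransparency.types false

universe u

open CategoryTheory CategoryTheory.Limits AlgebraicGeometry TopologicalSpace Opposite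
open Groth.Agent.CurveCohLib.Polar (InR gη eta_mem)

namespace Groth.Agent.CurvFam16.Nonspec

open Groth.Agent.LS17 Groth.Agent.FFLib Groth.Agent.CurvFam16.Castel

attribute [local instance] CurveFF.ffAlg

variable (k : Type u) [Field k] [IsAlgClosed k] {X : Scheme.{u}} [X.Over (Spec (CommRingCat.of k))]
  [IsIntegral X] [IsProper (X ↘ Spec (CommRingCat.of k))] [Smooth (X ↘ Spec (CommRingCat.of k))]
  {n : ℕ} (r : X ⟶ CohB1.ProjSpace n k)
  (hr : r ≫ CohB1.ProjSpace.toSpec n k = X ↘ Spec (CommRingCat.of k))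
  (hdim : topologicalKrullDim X = 1) {D : FunFld.Divisor k X.functionField} {f : Fin (n + 1) → X.functionField}
  (hb : IsBpfSeries D (Submodule.span k (Set.range f)))
  (hrat : ∀ (i j : Fin (n + 1)) (W : X.Opens) (h : W ≤ r ⁻¹ᵁ chartD k j) (hη : genericPoint X ∈ W),
    (X.presheaf.germ W _ hη (ProjUPX.ratioOf r (ProjPt.X_mem i) (ProjPt.X_mem j) h) : X.functionField) = f i / f j)

include hr hb hrat hdim in
/-- A closed immersion is nonsingular at every place. -/
theorem isNonsingularAt [IsClosedImmersion r] (P : FunFld.Place k X.functionField) :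
    FunFld.IsNonsingularAt f P := by
  obtain ⟨a, rfl⟩ := (CurveFF.pl k X hdim).surjective P
  set P := CurveFF.pl k X hdim a
  obtain ⟨j, hj, hjo⟩ := exists_exact_entry hb P
  have haW := mem_chart_of_ord k r hdim hb hrat a hj hjo
  set W : X.Opens := r ⁻¹ᵁ chartD k j
  have hη : genericPoint X ∈ W := eta_mem haW
  have hD : IsAffineOpen (chartD k j) := Proj.isAffineOpen_basicOpen _ _ (ProjPt.X_mem j) one_pos
  have hW : IsAffineOpen W := hD.preimage r
  intro z hz
  obtain ⟨s, rfl⟩ := (CurveFF.valAt_le_one_iff k X hdim a z).1 hz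
  set q : (W : X.Opens) := ⟨a.1, haW⟩
  letI : Algebra Γ(X, W) (X.presheaf.stalk a.1) := TopCat.Presheaf.algebra_section_stalk X.presheaf q
  haveI := hW.isLocalization_stalk q
  obtain ⟨⟨g, c⟩, hgc⟩ := IsLocalization.surj (hW.primeIdealOf q).asIdeal.primeCompl s
  have key : ∀ g : Γ(X, W), (algebraMap (X.presheaf.stalk a.1) X.functionField
      (X.presheaf.germ W a.1 haW g) : X.functionField) ∈ Algebra.adjoin k (Set.range fun i => f i / f j) := fun g => by
    obtain ⟨t, rfl⟩ := r.app_surjective (chartD k j) hD g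
    have h := germ_appLE_mem_algebra k r hr (le_refl W) hη (Set.range fun i => f i / f j)
      (fun i => ⟨i, (hrat i j W le_rfl hη).symm⟩) t
    rw [algebraMap_germ haW]
    rwa [Scheme.Hom.appLE_eq_app] at h
  have hcu : IsUnit (algebraMap Γ(X, W) (X.presheaf.stalk a.1) c.1) :=
    IsLocalization.map_units (X.presheaf.stalk a.1) c
  refine ⟨j, hj, fun i => ?_, _, key g, _, key c.1, ?_, ?_⟩
  · rw [val_eq_exp P hj, hjo, neg_neg]
    exact hb.le (Submodule.subset_span ⟨i, rfl⟩) P
  · refine le_antisymm ((CurveFF.valAt_le_one_iff k X hdim a _).2 ⟨_, rfl⟩) (not_lt.1 fun hlt => ?_)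
    exact (IsLocalRing.mem_maximalIdeal _).1 ((CurveFF.valAt_lt_one_iff k X hdim a _).1 hlt) hcu
  · rw [← map_mul]
    exact congrArg (algebraMap (X.presheaf.stalk a.1) X.functionField) hgc

include hr hb hrat hdim in
/-- A closed immersion separates every pair of places. -/
theorem ell_sep [IsClosedImmersion r] (P Q : FunFld.Place k X.functionField) :
    FunFld.ell (D - Finsupp.single P 1 - Finsupp.single Q 1) + 2 ≤ FunFld.ell D := by
  have hK := CurveFF.isFunctionField k X hdim
  have h' := bpf_of_nonsingular hK hb (isNonsingularAt k r hr hdim hb hrat P)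
  obtain ⟨z, hz, hz0, hzQ⟩ := h'.exact Q
  obtain ⟨w, hw, hw0, hwP⟩ := hb.exact P
  have := L_finite hK.1 D
  have := L_finite hK.1 (D - Finsupp.single P 1)
  have h1 : FunFld.L (D - Finsupp.single P 1) < FunFld.L D := lt_of_le_not_ge
    (L_mono (sub_le_self _ (Finsupp.single_nonneg.mpr zero_le_one))) fun hle =>
      (not_mem_L_sub_iff (hb.le hw)).mpr ⟨hw0, hwP⟩ (hle (hb.le hw))
  have h2 : FunFld.L (D - Finsupp.single P 1 - Finsupp.single Q 1) < FunFld.L (D - Finsupp.single P 1) := lt_of_le_not_ge
    (L_mono (sub_le_self _ (Finsupp.single_nonneg.mpr zero_le_one))) fun hle =>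
      (not_mem_L_sub_iff hz.2).mpr ⟨hz0, hzQ⟩ (hle hz.2)
  have := Submodule.finrank_lt_finrank_of_lt h1
  have := Submodule.finrank_lt_finrank_of_lt h2
  simp only [FunFld.ell] at *
  omega

omit hr in
/-- A divisor separating all pairs of places is the class of the `O(1)` of a closed immersion. -/
theorem exists_embedding {L : X.Modules} {D : FunFld.Divisor k X.functionField} (hD : HasDiv k hdim L D)
    {m : ℕ} (hm : FunFld.ell D = m + 1)
    (hsep : ∀ P Q : FunFld.Place k X.functionField,
      FunFld.ell (D - Finsupp.single P 1 - Finsupp.single Q 1) + 2 ≤ FunFld.ell D) :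
    ∃ i : X ⟶ CohB1.ProjSpace m k, IsClosedImmersion i ∧
      i ≫ CohB1.ProjSpace.toSpec m k = X ↘ Spec (CommRingCat.of k) ∧
      Nonempty ((Scheme.Modules.pullback i).obj (Twist.twistProjSpace m k 1) ≅ L) := by
  have hC : ∀ (a b : X) (hac : IsClosed ({a} : Set X)) (hbc : IsClosed ({b} : Set X)),
      Module.finrank k (Coh.HH X (CohB1.tensorMod L (CohB1.tensorMod (CurvePoint.ptMod a hac) (CurvePoint.ptMod b hbc))) 0) + 2 =
        Module.finrank k (Coh.HH X L 0) := by
    intro a b hac hbc
    have hK := CurveFF.isFunctionField k X hdim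
    rw [(hD.tensor k hdim ((hasDiv_ptMod k hdim a hac).tensor k hdim (hasDiv_ptMod k hdim b hbc))).h0 k hdim,
      hD.h0 k hdim, show ∀ x y : FunFld.Divisor k X.functionField, D + (-x + -y) = D - x - y from
        fun x y => by abel]
    have h1 := hsep (CurveFF.pl k X hdim ⟨a, hac⟩) (CurveFF.pl k X hdim ⟨b, hbc⟩)
    have h2 := ell_le_sub_pt hK D (CurveFF.pl k X hdim ⟨a, hac⟩)
    have h3 := ell_le_sub_pt hK (D - Finsupp.single (CurveFF.pl k X hdim ⟨a, hac⟩) 1) (CurveFF.pl k X hdim ⟨b, hbc⟩)
    omega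
  exact exists_embedding_rank k hdim hD.1 ((hD.h0 k hdim).trans hm)
    (fun he _ ha hac => CurveVA.exists_not_mem_self k hdim hD.1 hC he ha hac)
    (fun he _ _ ha hb hac hbc hne => CurveVA.separate k hdim hD.1 hC he ha hb hac hbc hne)
    (fun he _ ha hac N h1 h2 => CurveVA.tangent k hdim hD.1 hC he ha hac N h1 h2)

end Groth.Agent.CurvFam16.Nonspec
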